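import Groth.Agent.ModPairLib.BlowUp
import Groth.Agent.MeroX.DivDim
import Groth.Agent.MeroX.Basic

/-!
Elementary consequences of the universal property of blowing up.
-/

universe u

open CategoryTheory Limits AlgebraicGeometry

namespace Groth.Agent.BlowUpX

variable {X Y : Scheme.{u}}

lemma isEffCartier_top : BlowUp.IsEffCartierIdeal (⊤ : X.IdealSheafData) := by
  intro x
  obtain ⟨_, ⟨U, hU, rfl⟩, hxU, -⟩ := X.isBasis_affineOpens.exists_subset_of_mem_open
    (Set.mem_univ x) isOpen_univ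
  exact ⟨⟨U, hU⟩, hxU, 1, one_mem _, by simp⟩

lemma comap_eq_top (I : X.IdealSheafData) (g : Y ⟶ X)
    (hg : ∀ y, g y ∉ (I.support : Set X)) : I.comap g = ⊤ := by
  rw [← Scheme.IdealSheafData.support_eq_bot_iff]
  ext y
  simpa [Scheme.IdealSheafData.support_comap] using hg y

lemma isEffCartier_comap_of_avoid (I : X.IdealSheafData) (g : Y ⟶ X)
    (hg : ∀ y, g y ∉ (I.support : Set X)) : BlowUp.IsEffCartierIdeal (I.comap g) :=
  comap_eq_top I g hg ▸ isEffCartier_top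

lemma ideal_eq_top_of_disjoint (I : X.IdealSheafData) (U : X.affineOpens)
    (h : ∀ x ∈ U.1, x ∉ (I.support : Set X)) : I.ideal U = ⊤ := by
  by_contra hne
  obtain ⟨m, hm, hIm⟩ := Ideal.exists_le_maximal _ hne
  let q : PrimeSpectrum Γ(X, U.1) := ⟨m, hm.isPrime⟩
  have hq : U.2.fromSpec q ∈ U.1 := U.2.range_fromSpec.le ⟨q, rfl⟩
  refine h _ hq ((Scheme.IdealSheafData.mem_support_iff_of_mem (U := U) hq).mpr ?_)
  show q ∈ U.2.fromSpec ⁻¹' (X.zeroLocus (U := U.1) (I.ideal U))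
  rw [U.2.fromSpec_preimage_zeroLocus]
  exact (PrimeSpectrum.mem_zeroLocus q _).mpr hIm

lemma isLocPrincipal_of_support (I : X.IdealSheafData)
    (h : ∀ x ∈ I.support, ∃ U : X.affineOpens, x ∈ (U : X.Opens) ∧
      ∃ f : Γ(X, U), I.ideal U = Ideal.span {f}) : ModPairLib.IsLocPrincipal I := by
  intro x
  by_cases hx : x ∈ I.support
  · exact h x hx
  obtain ⟨_, ⟨U, hU, rfl⟩, hxU, hUI⟩ := X.isBasis_affineOpens.exists_subset_of_mem_open
    (show x ∈ (I.support.compl : Set X) from hx) I.support.compl.isOpen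
  exact ⟨⟨U, hU⟩, hxU, 1, by
    rw [ideal_eq_top_of_disjoint I ⟨U, hU⟩ fun z hz => hUI hz, Ideal.span_singleton_one]⟩

variable {I : X.IdealSheafData} {b : Y ⟶ X}

lemma isIso_restrict (hb : BlowUp.IsBlowUp b I) : IsIso (b ∣_ I.support.compl) := by
  set U : X.Opens := I.support.compl
  obtain ⟨h, hh, -⟩ := hb.2 U.toScheme U.ι (isEffCartier_comap_of_avoid I U.ι fun y => y.2)
  have hr : Set.range h ⊆ Set.range (b ⁻¹ᵁ U).ι := by
    rintro _ ⟨y, rfl⟩
    rw [Scheme.Opens.range_ι]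
    show b (h y) ∈ U
    rw [← Scheme.Hom.comp_apply, hh]
    exact y.2
  refine ⟨IsOpenImmersion.lift (b ⁻¹ᵁ U).ι h hr, ?_, ?_⟩
  · rw [← cancel_mono (b ⁻¹ᵁ U).ι, Category.assoc, IsOpenImmersion.lift_fac, Category.id_comp]
    obtain ⟨k, -, hk⟩ := hb.2 _ ((b ⁻¹ᵁ U).ι ≫ b) (isEffCartier_comap_of_avoid I _ fun y => y.2)
    refine (hk _ ?_).trans (hk _ rfl).symm
    show ((b ∣_ U) ≫ h) ≫ b = (b ⁻¹ᵁ U).ι ≫ b
    rw [Category.assoc, hh, morphismRestrict_ι]
  · rw [← cancel_mono U.ι, Category.assoc, morphismRestrict_ι, IsOpenImmersion.lift_fac_assoc, hh,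
      Category.id_comp]

lemma isEffCartier_left_of_mul {I J : X.IdealSheafData}
    (h : BlowUp.IsEffCartierIdeal (I * J)) : BlowUp.IsEffCartierIdeal I := by
  intro x
  obtain ⟨U, hxU, t, ht0, ht⟩ := h x
  rw [Scheme.IdealSheafData.ideal_mul, Pi.mul_apply] at ht
  let S : Set Γ(X, U.1) := {u | ∃ a ∈ I.ideal U, ∃ c ∈ J.ideal U, a * c = u * t}
  have hS : I.ideal U * J.ideal U ≤ Ideal.span S * Ideal.span {t} := by
    rw [Ideal.mul_le]
    intro a ha c hc
    obtain ⟨z, hz⟩ := Ideal.mem_span_singleton'.mp (ht ▸ Ideal.mul_mem_mul ha hc)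
    exact Ideal.mem_mul_span_singleton.mpr ⟨z, Ideal.subset_span ⟨a, ha, c, hc, hz.symm⟩, hz⟩
  obtain ⟨w, hw, hwt⟩ := Ideal.mem_mul_span_singleton.mp
    (hS (ht ▸ Ideal.mem_span_singleton_self t))
  have hw1 : (w - 1) * t = 0 := by rw [sub_mul, hwt, one_mul, sub_self]
  have hST : Ideal.span S = ⊤ := (Ideal.eq_top_iff_one _).mpr
    (sub_eq_zero.mp (mem_nonZeroDivisors_iff_right.mp ht0 _ hw1) ▸ hw)
  obtain ⟨⟨u, a, ha, c, hc, hac⟩, hxu⟩ := TopologicalSpace.Opens.mem_iSup.mp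
    ((U.2.self_le_iSup_basicOpen_iff.mpr hST) hxU)
  let D : X.affineOpens := ⟨X.basicOpen u, U.2.basicOpen u⟩
  have := U.2.isLocalization_basicOpen u
  set ρ := algebraMap Γ(X, U.1) Γ(X, X.basicOpen u)
  have hρt : ρ t ∈ nonZeroDivisors _ := MeroX.nonZeroDivisors_map (Submonoid.powers u) ht0
  have hu : IsUnit (ρ u) := IsLocalization.Away.algebraMap_isUnit u
  have hprod : ρ a * ρ c = ρ u * ρ t := by rw [← map_mul, hac, map_mul]
  have hnz : ρ a * ρ c ∈ nonZeroDivisors _ := hprod ▸ mul_mem hu.mem_nonZeroDivisors hρt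
  refine ⟨D, hxu, ρ a, (mul_mem_nonZeroDivisors.mp hnz).1, ?_⟩
  have hID : I.ideal D = (I.ideal U).map ρ := (I.map_ideal (U := D) (X.basicOpen_le u)).symm
  rw [hID]
  refine le_antisymm ?_ ((Ideal.span_singleton_le_iff_mem _).mpr (Ideal.mem_map_of_mem ρ ha))
  rw [Ideal.map_le_iff_le_comap]
  intro q hq
  obtain ⟨z, hz⟩ := Ideal.mem_span_singleton'.mp (ht ▸ Ideal.mul_mem_mul hq hc)
  obtain ⟨v, hv⟩ := hu.exists_right_inv
  refine Ideal.mem_span_singleton'.mpr ⟨ρ z * v, ?_⟩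
  have hz' : ρ z * ρ t = ρ q * ρ c := by rw [← map_mul, hz, map_mul]
  have e : (ρ z * v * ρ a - ρ q) * ρ c = 0 := by
    linear_combination (ρ z * v) * hprod + (ρ z * ρ t) * hv + hz'
  exact sub_eq_zero.mp (mem_nonZeroDivisors_iff_right.mp (mul_mem_nonZeroDivisors.mp hnz).2 _ e)

lemma app_mem_regSub_blowUp (hb : BlowUp.IsBlowUp b I) {U : X.Opens} {s : Γ(X, U)}
    (hs : s ∈ Mero.regSub X U) : b.app U s ∈ Mero.regSub Y (b ⁻¹ᵁ U) := by
  rintro ⟨y, hy⟩
  obtain ⟨_, ⟨V, hV, rfl⟩, hyV, hVU⟩ := X.isBasis_affineOpens.exists_subset_of_mem_open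
    (show b y ∈ (U : Set X) from hy) U.isOpen
  have hs' : (X.presheaf.map (homOfLE hVU).op).hom s ∈ nonZeroDivisors Γ(X, V) := by
    rw [← MeroX.regSub_eq_nonZeroDivisors hV]
    intro x
    have e := TopCat.Presheaf.germ_res_apply X.presheaf (homOfLE hVU) x.1 x.2 s
    exact e.symm ▸ hs ⟨x.1, hVU x.2⟩
  obtain ⟨W, e, hyW, c, hc, hW⟩ := ModPairLib.exists_chart_blowUp hb.1 y ⟨V, hV⟩ hyV
  have h1 := MeroX.germ_mem_nonZeroDivisors W.2
    (ModPairLib.appLE_mem_nonZeroDivisors_of_isBlowUp hb ⟨V, hV⟩ W e hc hW hs') y hyW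
  have h2 : Y.presheaf.germ W.1 y hyW ((b.appLE V W.1 e).hom
      ((X.presheaf.map (homOfLE hVU).op).hom s)) = Y.presheaf.germ (b ⁻¹ᵁ U) y hy (b.app U s) := by
    change Y.presheaf.germ W.1 y hyW ((X.presheaf.map (homOfLE hVU).op ≫ b.appLE V W.1 e).hom s) = _
    rw [Scheme.Hom.map_appLE, Scheme.Hom.appLE]
    exact TopCat.Presheaf.germ_res_apply Y.presheaf
      (homOfLE (e.trans ((TopologicalSpace.Opens.map b.base).map (homOfLE hVU)).le)) y hyW (b.app U s)
  exact h2 ▸ h1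

lemma app_mem_regSub_flat {f : Y ⟶ X} [Flat f] {U : X.Opens} {s : Γ(X, U)}
    (hs : s ∈ Mero.regSub X U) : f.app U s ∈ Mero.regSub Y (f ⁻¹ᵁ U) := by
  rintro ⟨y, hy⟩
  have hflat := Flat.stalkMap f y
  letI := (f.stalkMap y).hom.toAlgebra
  haveI : Module.Flat (X.presheaf.stalk (f y)) (Y.presheaf.stalk y) := hflat
  have hs' := hs ⟨f y, hy⟩
  have h1 := IsSMulRegular.of_flat (S := Y.presheaf.stalk y)
    (show IsSMulRegular (X.presheaf.stalk (f y)) (X.presheaf.germ U (f y) hy s) from fun p q h => by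
      simp only [smul_eq_mul] at h
      have h0 : (p - q) * X.presheaf.germ U (f y) hy s = 0 := by
        rw [sub_mul, mul_comm p, mul_comm q, h, sub_self]
      exact sub_eq_zero.mp (mem_nonZeroDivisors_iff_right.mp hs' _ h0))
  rw [mem_nonZeroDivisors_iff_right]
  intro z hz
  refine h1 ?_
  change f.stalkMap y (X.presheaf.germ U (f y) hy s) * z =
    f.stalkMap y (X.presheaf.germ U (f y) hy s) * 0
  rw [mul_zero, mul_comm]
  rw [show f.stalkMap y (X.presheaf.germ U (f y) hy s) = Y.presheaf.germ (f ⁻¹ᵁ U) y hy (f.app U s)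
    from f.germ_stalkMap_apply U y hy s]
  exact hz

/-- A point with no proper generization lies outside an effective Cartier divisor. -/
lemma notMem_support_of_generic {D : X.IdealSheafData} (hD : BlowUp.IsEffCartierIdeal D) (x : X)
    (hx : ∀ z : X, z ⤳ x → z = x) : x ∉ D.support := by
  intro hxD
  obtain ⟨U, hU, a, ha, hDa⟩ := hD x
  have hmin := MeroX.mem_minimalPrimes_of_generic (⊥ : X.IdealSheafData) x
    (by simp) (fun z _ h => hx z h) U hU
  rw [Scheme.IdealSheafData.ideal_bot, Pi.bot_apply, Ideal.map_bot] at hmin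
  have hd := Ideal.disjoint_nonZeroDivisors_of_mem_minimalPrimes hmin
  refine Set.disjoint_left.mp hd ?_ (MeroX.germ_mem_nonZeroDivisors U.2 ha x hU)
  have hz := (Scheme.IdealSheafData.mem_support_iff_of_mem (U := U) hU).mp hxD
  rw [SetLike.mem_coe, IsLocalRing.mem_maximalIdeal, mem_nonunits_iff]
  intro hu
  exact (Scheme.mem_zeroLocus_iff _ _ _).mp hz a (hDa ▸ Ideal.mem_span_singleton_self a)
    ((Scheme.mem_basicOpen _ _ _ hU).mpr hu)

/-- A locally principal ideal on a reduced scheme missing the generic points is effective Cartier. -/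
lemma isEffCartier_of_reduced [IsReduced X] {D : X.IdealSheafData}
    (hD : ModPairLib.IsLocPrincipal D)
    (h : ∀ x : X, (∀ z : X, z ⤳ x → z = x) → x ∉ D.support) : BlowUp.IsEffCartierIdeal D := by
  intro x
  obtain ⟨U, hU, a, ha⟩ := hD x
  refine ⟨U, hU, a, mem_nonZeroDivisors_iff_right.mpr fun y hy => ?_, ha⟩
  have hnil : y ∈ (⊥ : Ideal Γ(X, U.1)).radical := by
    rw [← Ideal.sInf_minimalPrimes, Ideal.mem_sInf]
    intro p hp
    haveI : p.IsPrime := hp.1.1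
    refine (Ideal.IsPrime.mem_or_mem ‹_› (show y * a ∈ p from hy ▸ p.zero_mem)).resolve_right ?_
    intro hap
    let q : PrimeSpectrum Γ(X, U.1) := ⟨p, ‹_›⟩
    have hq : U.2.fromSpec q ∈ U.1 := U.2.range_fromSpec.le ⟨q, rfl⟩
    refine h (U.2.fromSpec q) (fun z hz => ?_) ?_
    · have hzU : z ∈ U.1 := hz.mem_open U.1.isOpen hq
      obtain ⟨r', rfl⟩ := U.2.range_fromSpec.ge hzU
      let r : PrimeSpectrum Γ(X, U.1) := r'
      have hr : r.asIdeal ≤ q.asIdeal := (PrimeSpectrum.le_iff_specializes r q).mpr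
        (U.2.fromSpec.isOpenEmbedding.isInducing.specializes_iff.mp hz)
      have hrq : r = q := PrimeSpectrum.ext (le_antisymm hr (hp.2 ⟨r.2, bot_le⟩ hr))
      exact congrArg U.2.fromSpec hrq
    · refine (Scheme.IdealSheafData.mem_support_iff_of_mem (U := U) hq).mpr ?_
      show q ∈ U.2.fromSpec ⁻¹' (X.zeroLocus (U := U.1) (D.ideal U))
      rw [U.2.fromSpec_preimage_zeroLocus, ha, PrimeSpectrum.zeroLocus_span]
      exact (PrimeSpectrum.mem_zeroLocus q _).mpr (Set.singleton_subset_iff.mpr hap)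
  obtain ⟨n, hn⟩ := hnil
  exact IsReduced.eq_zero y ⟨n, hn⟩

end Groth.Agent.BlowUpX
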